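import Groth.Agent.GerbLib.Glue
import Groth.Agent.StkLib.Sieves

/-!
# Stacks with a common locally essentially surjective fully faithful source are equivalent
-/

set_option autoImplicit false
set_option backward.isDefEq.respectTransparency false
set_option backward.isDefEq.respectTransparency.types false

universe v₄ u₄ v₃ u₃ v₂ u₂ v u

open CategoryTheory CategoryTheory.Functor Groth.Agent.FibBase Groth.Agent.GerbLib Groth.Agent.StkLib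

namespace Groth.Agent.IsoNatLib

variable {C : Type u} [Category.{v} C] {J : GrothendieckTopology C} {𝒳 : BasedCategory.{v₂, u₂} C}
  {𝒴 : BasedCategory.{v₃, u₃} C} {𝒜 : BasedCategory.{v₄, u₄} C}

/-- Every object of the target is locally a value. -/
def Covers (J : GrothendieckTopology C) (i : 𝒜 ⥤ᵇ 𝒳) : Prop :=
  ∀ a : 𝒳.obj, ∃ R ∈ J (𝒳.p.obj a), ∀ ⦃V : C⦄ (f : V ⟶ 𝒳.p.obj a), R f →
    ∃ (d : 𝒜.obj) (φ : i.obj d ⟶ a), 𝒳.p.IsHomLift f φ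

section Glue

variable {i : 𝒜 ⥤ᵇ 𝒳}

theorem hom_ext_cover (hX : Stk.IsPrestack J 𝒳) (hi : Covers J i) {x x' : 𝒳.obj} (α α' : x ⟶ x')
    (hm : 𝒳.p.map α = 𝒳.p.map α') (H : ∀ (d : 𝒜.obj) (φ : i.obj d ⟶ x), φ ≫ α = φ ≫ α') : α = α' := by
  obtain ⟨R, hR, hR'⟩ := hi x
  refine hom_ext_local hX α α' hm hR fun V f hf => ?_
  obtain ⟨d, φ, hφ⟩ := hR' f hf
  exact ⟨i.obj d, φ, hφ, H d φ⟩

/-- A natural family on values glues. -/
theorem exists_hom_of_cover (hX : Stk.IsPrestack J 𝒳) [i.toFunctor.Full] (hi : Covers J i) {x x' : 𝒳.obj}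
    (k : 𝒳.p.obj x ⟶ 𝒳.p.obj x') (P : ∀ d, (i.obj d ⟶ x) → Prop)
    (hP : ∀ {d' d : 𝒜.obj} (n : d' ⟶ d) (φ : i.obj d ⟶ x), P d φ → P d' (i.map n ≫ φ))
    (hcov : ∃ R ∈ J (𝒳.p.obj x), ∀ ⦃V : C⦄ (f : V ⟶ 𝒳.p.obj x), R f →
      ∃ (d : 𝒜.obj) (φ : i.obj d ⟶ x), P d φ ∧ 𝒳.p.IsHomLift f φ)
    (η : ∀ d (φ : i.obj d ⟶ x), P d φ → (i.obj d ⟶ x'))
    (hη : ∀ d (φ : i.obj d ⟶ x) (h : P d φ), 𝒳.p.map (η d φ h) = 𝒳.p.map φ ≫ k)
    (hnat : ∀ {d' d : 𝒜.obj} (n : d' ⟶ d) (φ : i.obj d ⟶ x) (h : P d φ),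
      η d' (i.map n ≫ φ) (hP n φ h) = i.map n ≫ η d φ h) :
    ∃ α : x ⟶ x', 𝒳.p.map α = k ∧ ∀ d (φ : i.obj d ⟶ x) (h : P d φ), φ ≫ α = η d φ h := by
  let T : Sieve (𝒳.p.obj x) :=
    { arrows := fun V f => ∃ (d : 𝒜.obj) (φ : i.obj d ⟶ x) (g : V ⟶ 𝒳.p.obj (i.obj d)),
        P d φ ∧ g ≫ 𝒳.p.map φ = f
      downward_closed := by
        rintro V W f ⟨d, φ, g, h, e⟩ l
        exact ⟨d, φ, l ≫ g, h, by rw [Category.assoc, e]⟩ }
  have hT : T ∈ J (𝒳.p.obj x) := by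
    obtain ⟨R, hR, hR'⟩ := hcov
    refine J.superset_covering (fun V f hf => ?_) hR
    obtain ⟨d, φ, h, hl⟩ := hR' f hf
    exact ⟨d, φ, eqToHom (IsHomLift.domain_eq 𝒳.p f φ).symm, h, by rw [IsHomLift.fac' 𝒳.p f φ]; simp⟩
  have hwit : ∀ {y : 𝒳.obj} (a : y ⟶ x), T (𝒳.p.map a) →
      ∃ (d : 𝒜.obj) (φ : i.obj d ⟶ x) (u : y ⟶ i.obj d), P d φ ∧ u ≫ φ = a := by
    rintro y a ⟨d, φ, g, h, e⟩
    obtain ⟨u, -, hu⟩ := exists_factor hX.1 φ a g e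
    exact ⟨d, φ, u, h, hu⟩
  have key : ∀ {y : 𝒳.obj} (a : y ⟶ x), T (𝒳.p.map a) → ∃ w : y ⟶ x', ∀ d (φ : i.obj d ⟶ x)
      (u : y ⟶ i.obj d) (h : P d φ), u ≫ φ = a → w = u ≫ η d φ h := by
    intro y a ha
    obtain ⟨d, φ, u, h, e⟩ := hwit a ha
    refine ⟨u ≫ η d φ h, fun d' φ' u' h' e' => hom_ext_cover hX hi _ _ ?_ fun c v => ?_⟩
    · rw [Functor.map_comp, Functor.map_comp, hη, hη, ← Category.assoc, ← Functor.map_comp,
        ← Category.assoc, ← Functor.map_comp, e, e']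
    · obtain ⟨n, hn⟩ := i.toFunctor.map_surjective (v ≫ u)
      obtain ⟨n', hn'⟩ := i.toFunctor.map_surjective (v ≫ u')
      rw [← Category.assoc, ← Category.assoc, ← hn, ← hn', ← hnat n φ h, ← hnat n' φ' h']
      have e₂ : i.map n ≫ φ = i.map n' ≫ φ' := by rw [hn, hn', Category.assoc, Category.assoc, e, e']
      congr 1
  choose w hw using @key
  obtain ⟨α, hα, hα'⟩ := exists_glue hX k T hT (fun a ha => w a ha)
    (fun {y} a ha => by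
      obtain ⟨d, φ, u, h, e⟩ := hwit a ha
      rw [hw a ha d φ u h e, Functor.map_comp, hη, ← e, Functor.map_comp, Category.assoc])
    (fun {y' y} m a ha ha' => by
      obtain ⟨d, φ, u, h, e⟩ := hwit a ha
      rw [hw a ha d φ u h e, hw (m ≫ a) ha' d φ (m ≫ u) h (by rw [Category.assoc, e]), Category.assoc])
  refine ⟨α, hα, fun d φ h => ?_⟩
  have hm : T (𝒳.p.map φ) := ⟨d, φ, 𝟙 _, h, Category.id_comp _⟩
  rw [hα' φ hm, hw φ hm d φ (𝟙 _) h (Category.id_comp _), Category.id_comp]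

end Glue

variable (i : 𝒜 ⥤ᵇ 𝒳) (j : 𝒜 ⥤ᵇ 𝒴)

/-- Corresponding objects: the same morphisms from values. -/
structure Match (a : 𝒳.obj) (b : 𝒴.obj) where
  /-- same base -/
  hb : 𝒴.p.obj b = 𝒳.p.obj a
  /-- the bijection -/
  θ : ∀ c : 𝒜.obj, (i.obj c ⟶ a) ≃ (j.obj c ⟶ b)
  nat : ∀ {c' c : 𝒜.obj} (n : c' ⟶ c) (φ : i.obj c ⟶ a), θ c' (i.map n ≫ φ) = j.map n ≫ θ c φ
  base : ∀ (c : 𝒜.obj) (φ : i.obj c ⟶ a), 𝒴.p.map (θ c φ) =
    eqToHom ((j.w_obj c).trans (i.w_obj c).symm) ≫ 𝒳.p.map φ ≫ eqToHom hb.symm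

variable {i j}

/-- The opposite correspondence. -/
def Match.symm {a : 𝒳.obj} {b : 𝒴.obj} (t : Match i j a b) : Match j i b a where
  hb := t.hb.symm
  θ c := (t.θ c).symm
  nat {c' c} n ψ := by
    apply (t.θ c').injective
    rw [Equiv.apply_symm_apply, t.nat, Equiv.apply_symm_apply]
  base c ψ := by
    have h := t.base c ((t.θ c).symm ψ)
    rw [Equiv.apply_symm_apply] at h
    rw [h]
    simp

theorem Match.exists_hom (hY : Stk.IsPrestack J 𝒴) [j.toFunctor.Full] (hj : Covers J j) {a a' : 𝒳.obj}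
    {b b' : 𝒴.obj} (t : Match i j a b) (t' : Match i j a' b') (α : a ⟶ a') :
    ∃ β : b ⟶ b', 𝒴.p.map β = eqToHom t.hb ≫ 𝒳.p.map α ≫ eqToHom t'.hb.symm ∧
      ∀ c (φ : i.obj c ⟶ a), t.θ c φ ≫ β = t'.θ c (φ ≫ α) := by
  obtain ⟨R, hR, hR'⟩ := hj b
  obtain ⟨β, hβ, hβ'⟩ := exists_hom_of_cover hY hj
    (eqToHom t.hb ≫ 𝒳.p.map α ≫ eqToHom t'.hb.symm) (fun _ _ => True) (fun _ _ _ => trivial)
    ⟨R, hR, fun V f hf => let ⟨d, φ, h⟩ := hR' f hf; ⟨d, φ, trivial, h⟩⟩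
    (fun d ψ _ => t'.θ d ((t.θ d).symm ψ ≫ α))
    (fun d ψ _ => by
      rw [t'.base, Functor.map_comp, show 𝒳.p.map ((t.θ d).symm ψ) = _ from t.symm.base d ψ]
      simp)
    (fun {d' d} n ψ _ => by
      rw [← t'.nat, show (t.θ d').symm (j.map n ≫ ψ) = _ from t.symm.nat n ψ, Category.assoc]
      rfl)
  exact ⟨β, hβ, fun c φ => by rw [hβ' c (t.θ c φ) trivial, Equiv.symm_apply_apply]⟩

theorem Match.hom_ext (hY : Stk.IsPrestack J 𝒴) (hj : Covers J j) {a : 𝒳.obj} {b b' : 𝒴.obj}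
    (t : Match i j a b) (β β' : b ⟶ b') (hm : 𝒴.p.map β = 𝒴.p.map β')
    (h : ∀ c (φ : i.obj c ⟶ a), t.θ c φ ≫ β = t.θ c φ ≫ β') : β = β' :=
  hom_ext_cover hY hj β β' hm fun c ψ => by
    obtain ⟨φ, rfl⟩ := (t.θ c).surjective ψ
    exact h c φ

/-- An injective correspondence is bijective. -/
theorem surj_of_inj (hX : Stk.IsPrestack J 𝒳) (hY : Stk.IsPrestack J 𝒴) [i.toFunctor.Full] [i.toFunctor.Faithful]
    [j.toFunctor.Full] (hi : Covers J i) {a : 𝒳.obj} {b : 𝒴.obj} (hb : 𝒴.p.obj b = 𝒳.p.obj a)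
    (θ : ∀ c : 𝒜.obj, (i.obj c ⟶ a) → (j.obj c ⟶ b))
    (nat : ∀ {c' c : 𝒜.obj} (n : c' ⟶ c) (φ : i.obj c ⟶ a), θ c' (i.map n ≫ φ) = j.map n ≫ θ c φ)
    (base : ∀ (c : 𝒜.obj) (φ : i.obj c ⟶ a), 𝒴.p.map (θ c φ) =
      eqToHom ((j.w_obj c).trans (i.w_obj c).symm) ≫ 𝒳.p.map φ ≫ eqToHom hb.symm)
    (inj : ∀ c, Function.Injective (θ c)) (c : 𝒜.obj) : Function.Surjective (θ c) := by
  intro ψ
  let k : 𝒳.p.obj (i.obj c) ⟶ 𝒳.p.obj a :=
    eqToHom ((i.w_obj c).trans (j.w_obj c).symm) ≫ 𝒴.p.map ψ ≫ eqToHom hb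
  let P : ∀ d, (i.obj d ⟶ i.obj c) → Prop := fun d δ =>
    ∃ (n : d ⟶ c) (φ : i.obj d ⟶ a), i.map n = δ ∧ θ d φ = j.map n ≫ ψ
  have hP : ∀ {d' d : 𝒜.obj} (n : d' ⟶ d) (δ : i.obj d ⟶ i.obj c), P d δ → P d' (i.map n ≫ δ) := by
    rintro d' d n δ ⟨m, φ, rfl, h⟩
    exact ⟨n ≫ m, i.map n ≫ φ, i.toFunctor.map_comp _ _, by rw [nat, h, j.toFunctor.map_comp, Category.assoc]⟩
  obtain ⟨R, hR, hR'⟩ := hi a
  have hcov : ∀ ⦃V : C⦄ (f : V ⟶ 𝒳.p.obj (i.obj c)), R.pullback k f → ∃ (d : 𝒜.obj) (n : d ⟶ c) (φ : i.obj d ⟶ a),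
      𝒳.p.IsHomLift f (i.map n) ∧ θ d φ = j.map n ≫ ψ := by
    intro V f hf
    obtain ⟨d, φ, hφ⟩ := hR' _ hf
    have hd : 𝒳.p.obj (i.obj d) = V := IsHomLift.domain_eq 𝒳.p (f ≫ k) φ
    obtain ⟨δ, hδ, hδe⟩ := exists_factor hY.1 ψ (θ d φ) (eqToHom (((j.w_obj d).trans (i.w_obj d).symm).trans hd) ≫
      f ≫ eqToHom ((i.w_obj c).trans (j.w_obj c).symm)) (by
        rw [base, IsHomLift.fac' 𝒳.p (f ≫ k) φ]
        simp [k])
    obtain ⟨n, rfl⟩ := j.toFunctor.map_surjective δ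
    refine ⟨d, n, φ, IsHomLift.of_fac' _ f _ hd rfl ?_, hδe.symm⟩
    rw [Groth.Agent.StkLib.w_map] at hδ
    rw [Groth.Agent.StkLib.w_map]
    have := congrArg (fun g => eqToHom ((i.w_obj d).trans (j.w_obj d).symm) ≫ g ≫
      eqToHom ((j.w_obj c).trans (i.w_obj c).symm)) hδ
    simpa using this
  let η : ∀ d (δ : i.obj d ⟶ i.obj c), P d δ → (i.obj d ⟶ a) := fun d δ h => h.choose_spec.choose
  have hηs : ∀ d (δ : i.obj d ⟶ i.obj c) (h : P d δ) (n : d ⟶ c), i.map n = δ → θ d (η d δ h) = j.map n ≫ ψ := by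
    intro d δ h n hn
    obtain ⟨h₁, h₂⟩ := h.choose_spec.choose_spec
    rw [h₂, i.toFunctor.map_injective (h₁.trans hn.symm)]
  obtain ⟨α, hbase, hα⟩ := exists_hom_of_cover hX hi k P hP
    ⟨R.pullback k, J.pullback_stable k hR, fun V f hf => by
      obtain ⟨d, n, φ, hn, h⟩ := hcov f hf
      exact ⟨d, i.map n, ⟨n, φ, rfl, h⟩, hn⟩⟩
    η (fun d δ h => by
      obtain ⟨n, φ, hn, hθ⟩ := id h
      have hθ' := hηs d δ h n hn
      have h₁ := base d (η d δ h)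
      rw [hθ', Functor.map_comp, Groth.Agent.StkLib.w_map] at h₁
      have e₁ : 𝒳.p.map δ = 𝒳.p.map (i.map n) := congrArg 𝒳.p.map hn.symm
      rw [e₁, Groth.Agent.StkLib.w_map]
      have := congrArg (fun g => eqToHom ((i.w_obj d).trans (j.w_obj d).symm) ≫ g ≫ eqToHom hb) h₁
      simp at this
      rw [← this]
      simp [k])
    (fun {d' d} n δ h => by
      apply inj d'
      obtain ⟨m, φ, hm, -⟩ := id h
      rw [nat, hηs d' _ _ (n ≫ m) (by rw [i.toFunctor.map_comp, hm]), hηs d δ h m hm, j.toFunctor.map_comp,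
        Category.assoc])
  refine ⟨α, ?_⟩
  refine hom_ext_local hY (θ c α) ψ (by rw [base, hbase]; simp [k])
    (J.pullback_stable (eqToHom ((j.w_obj c).trans (i.w_obj c).symm)) (J.pullback_stable k hR)) fun V f hf => ?_
  obtain ⟨d, n, φ, hn, h⟩ := hcov _ hf
  refine ⟨j.obj d, j.map n, ?_, ?_⟩
  · have hd : 𝒳.p.obj (i.obj d) = V :=
      IsHomLift.domain_eq 𝒳.p (f ≫ eqToHom ((j.w_obj c).trans (i.w_obj c).symm)) (i.map n)
    refine IsHomLift.of_fac' _ f _ (((j.w_obj d).trans (i.w_obj d).symm).trans hd) rfl ?_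
    have h₁ := IsHomLift.fac' 𝒳.p (f ≫ eqToHom ((j.w_obj c).trans (i.w_obj c).symm)) (i.map n)
    rw [Groth.Agent.StkLib.w_map] at h₁
    rw [Groth.Agent.StkLib.w_map]
    have := congrArg (fun g => eqToHom ((j.w_obj d).trans (i.w_obj d).symm) ≫ g ≫
      eqToHom ((i.w_obj c).trans (j.w_obj c).symm)) h₁
    simpa using this
  · rw [← nat, hα d (i.map n) ⟨n, φ, rfl, h⟩, hηs d _ _ n rfl]

section Exists

variable {U : C} {T : Sieve U}

/-- Two cocones on a lifted sieve identify the same pairs. -/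
theorem transfer (hX : FibCat.IsFibGrpd 𝒳.p) [i.toFunctor.Full] [i.toFunctor.Faithful]
    (H : Stk.sieveCat T ⥤ᵇ 𝒜) {a : 𝒳.obj} {b : 𝒴.obj}
    (E : ∀ s : (Stk.sieveCat T).obj, i.obj (H.obj s) ⟶ a) (hE : ∀ s, 𝒳.p.IsHomLift s.obj.hom (E s))
    (hEc : ∀ {s' s : (Stk.sieveCat T).obj} (g : s' ⟶ s), i.map (H.map g) ≫ E s = E s')
    (E' : ∀ s : (Stk.sieveCat T).obj, j.obj (H.obj s) ⟶ b)
    (hEc' : ∀ {s' s : (Stk.sieveCat T).obj} (g : s' ⟶ s), j.map (H.map g) ≫ E' s = E' s')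
    {c : 𝒜.obj} {s s' : (Stk.sieveCat T).obj} (m : c ⟶ H.obj s) (m' : c ⟶ H.obj s')
    (h : i.map m ≫ E s = i.map m' ≫ E s') : j.map m ≫ E' s = j.map m' ≫ E' s' := by
  let bm : ∀ {r : (Stk.sieveCat T).obj} (_ : c ⟶ H.obj r), 𝒜.p.obj c ⟶ r.obj.left :=
    fun {r} n => 𝒜.p.map n ≫ eqToHom (H.w_obj r)
  have hbase : ∀ {r : (Stk.sieveCat T).obj} (n : c ⟶ H.obj r), 𝒳.p.map (i.map n ≫ E r) ≫
      eqToHom (IsHomLift.codomain_eq 𝒳.p r.obj.hom (E r)) = eqToHom (i.w_obj c) ≫ bm n ≫ r.obj.hom := by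
    intro r n
    have := hE r
    rw [Functor.map_comp, IsHomLift.fac' 𝒳.p r.obj.hom (E r), Groth.Agent.StkLib.w_map]
    simp [bm]
  have hl : bm m ≫ s.obj.hom = bm m' ≫ s'.obj.hom := by
    have h₁ := hbase m
    rw [h, hbase m'] at h₁
    exact ((cancel_epi _).1 h₁).symm
  let s₀ : (Stk.sieveCat T).obj := sob (bm m ≫ s.obj.hom) (T.downward_closed s.property _)
  let g : s₀ ⟶ s := ObjectProperty.homMk (Over.homMk (bm m) rfl)
  let g' : s₀ ⟶ s' := ObjectProperty.homMk (Over.homMk (bm m') hl.symm)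
  have hfac : ∀ {r : (Stk.sieveCat T).obj} (g : s₀ ⟶ r) (n : c ⟶ H.obj r), g.hom.left = bm n →
      ∃ k : c ⟶ H.obj s₀, 𝒳.p.map (i.map k) =
          eqToHom ((i.w_obj c).trans ((H.w_obj s₀).symm.trans (i.w_obj _).symm)) ∧ k ≫ H.map g = n := by
    intro r g n hg
    obtain ⟨k, hk, hke⟩ := exists_factor hX (i.map (H.map g)) (i.map n)
      (eqToHom ((i.w_obj c).trans ((H.w_obj s₀).symm.trans (i.w_obj _).symm))) (by
        rw [Groth.Agent.StkLib.w_map, Groth.Agent.StkLib.w_map, Groth.Agent.StkLib.w_map,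
          show (Stk.sieveCat T).p.map g = g.hom.left from rfl, hg]
        simp [bm])
    obtain ⟨k, rfl⟩ := i.toFunctor.map_surjective k
    exact ⟨k, hk, i.toFunctor.map_injective (by rw [i.toFunctor.map_comp, hke])⟩
  obtain ⟨k, hk, hke⟩ := hfac g m rfl
  obtain ⟨k', hk', hke'⟩ := hfac g' m' rfl
  obtain rfl : k = k' := i.toFunctor.map_injective (hom_ext_cart hX (E s₀) (hk.trans hk'.symm) (by
    calc i.map k ≫ E s₀ = i.map m ≫ E s := by rw [← hke, i.toFunctor.map_comp, Category.assoc, hEc]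
      _ = i.map k' ≫ E s₀ := by rw [h, ← hke', i.toFunctor.map_comp, Category.assoc, hEc]))
  rw [← hke, ← hke', j.toFunctor.map_comp, j.toFunctor.map_comp, Category.assoc, Category.assoc, hEc', hEc']

end Exists

/-- Lifts of arrows exist in the common source. -/
def HasLifts (𝒜 : BasedCategory.{v₄, u₄} C) : Prop :=
  ∀ (d : 𝒜.obj) {V : C} (g : V ⟶ 𝒜.p.obj d), ∃ (d' : 𝒜.obj) (n : d' ⟶ d), 𝒜.p.IsHomLift g n

variable (hX : Stk.IsStack J 𝒳) (hY : Stk.IsStack J 𝒴) [i.toFunctor.Full] [i.toFunctor.Faithful]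
  [j.toFunctor.Full] [j.toFunctor.Faithful] (hl : HasLifts 𝒜) (hi : Covers J i) (hj : Covers J j)

include hX hY hl hi

theorem exists_match (a : 𝒳.obj) : ∃ b : 𝒴.obj, Nonempty (Match i j a b) := by
  let T : Sieve (𝒳.p.obj a) :=
    { arrows := fun V f => ∃ (d : 𝒜.obj) (φ : i.obj d ⟶ a), 𝒳.p.IsHomLift f φ
      downward_closed := by
        rintro V W f ⟨d, φ, hφ⟩ g
        have hV : 𝒜.p.obj d = V := (i.w_obj d).symm.trans (IsHomLift.domain_eq 𝒳.p f φ)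
        subst hV
        obtain ⟨d', n, hn⟩ := hl d g
        have := i.preserves_isHomLift g n
        exact ⟨d', i.map n ≫ φ, IsHomLift.comp 𝒳.p g f (i.map n) φ⟩ }
  have hT : T ∈ J (𝒳.p.obj a) := by
    obtain ⟨R, hR, hR'⟩ := hi a
    exact J.superset_covering (fun V f hf => hR' f hf) hR
  obtain ⟨G, e₀, he₀⟩ := exists_ofObj hX.1 a rfl
  obtain ⟨H, ⟨eH⟩⟩ := exists_lift_post i (BasedFunctor.comp (Stk.sieveIncl T) G) (fun s => by
    obtain ⟨d, φ, hφ⟩ := s.property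
    obtain ⟨u, hu⟩ := exists_iso_at hX.1 G s.obj e₀.hom he₀ φ hφ
    exact ⟨d, u, hu⟩)
  have : (Stk.resSieve T 𝒴).IsEquivalence := hY.2 T hT
  let Y := (Stk.resSieve T 𝒴).objPreimage (BasedFunctor.comp H j)
  let eY : BasedFunctor.comp (Stk.sieveIncl T) Y ≅ BasedFunctor.comp H j :=
    (Stk.resSieve T 𝒴).objObjPreimageIso _
  let E : ∀ s : (Stk.sieveCat T).obj, i.obj (H.obj s) ⟶ a := fun s =>
    (isoApp eH s).hom ≫ G.map (toId s.obj) ≫ e₀.hom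
  let E' : ∀ s : (Stk.sieveCat T).obj, j.obj (H.obj s) ⟶ Y.obj (Over.mk (𝟙 (𝒳.p.obj a))) := fun s =>
    (isoApp eY s).inv ≫ Y.map (toId s.obj)
  have hE : ∀ s, 𝒳.p.IsHomLift s.obj.hom (E s) := fun s => by
    have h₁ : 𝒳.p.IsHomLift (𝟙 s.obj.left) (isoApp eH s).hom := isoApp_lift eH rfl
    have : 𝒳.p.IsHomLift s.obj.hom (G.map (toId s.obj)) := overMap_isHomLift G (toId s.obj)
    have : 𝒳.p.IsHomLift s.obj.hom (G.map (toId s.obj) ≫ e₀.hom) :=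
      IsHomLift.comp_lift_id_right' 𝒳.p s.obj.hom (G.map (toId s.obj)) (𝒳.p.obj a) e₀.hom
    exact IsHomLift.comp_lift_id_left' 𝒳.p s.obj.left (isoApp eH s).hom s.obj.hom _
  have hE' : ∀ s, 𝒴.p.IsHomLift s.obj.hom (E' s) := fun s => by
    have h₁ : 𝒴.p.IsHomLift (𝟙 s.obj.left) (isoApp eY s).inv := isoApp_inv_lift eY rfl
    have : 𝒴.p.IsHomLift s.obj.hom (Y.map (toId s.obj)) := overMap_isHomLift Y (toId s.obj)
    exact IsHomLift.comp_lift_id_left' 𝒴.p s.obj.left (isoApp eY s).inv s.obj.hom _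
  have hto : ∀ {s' s : (Stk.sieveCat T).obj} (g : s' ⟶ s), g.hom ≫ toId s.obj = toId s'.obj :=
    fun g => Over.OverMorphism.ext (Over.w g.hom)
  have hEc : ∀ {s' s : (Stk.sieveCat T).obj} (g : s' ⟶ s), i.map (H.map g) ≫ E s = E s' := by
    intro s' s g
    show i.map (H.map g) ≫ (isoApp eH s).hom ≫ _ = (isoApp eH s').hom ≫ _
    have h₁ : i.map (H.map g) ≫ (isoApp eH s).hom = (isoApp eH s').hom ≫ G.map g.hom := natural eH g
    rw [reassoc_of% h₁, ← hto g, G.toFunctor.map_comp, Category.assoc]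
  have hEc' : ∀ {s' s : (Stk.sieveCat T).obj} (g : s' ⟶ s), j.map (H.map g) ≫ E' s = E' s' := by
    intro s' s g
    show j.map (H.map g) ≫ (isoApp eY s).inv ≫ _ = (isoApp eY s').inv ≫ _
    have h₁ : Y.map g.hom ≫ (isoApp eY s).hom = (isoApp eY s').hom ≫ j.map (H.map g) := natural eY g
    rw [← cancel_epi (isoApp eY s').hom, ← reassoc_of% h₁, Iso.hom_inv_id_assoc, Iso.hom_inv_id_assoc, ← hto g,
      Y.toFunctor.map_comp]
  have hwit : ∀ (c : 𝒜.obj) (φ : i.obj c ⟶ a),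
      ∃ (s : (Stk.sieveCat T).obj) (m : c ⟶ H.obj s), i.map m ≫ E s = φ := by
    intro c φ
    let f : 𝒜.p.obj c ⟶ 𝒳.p.obj a := eqToHom (i.w_obj c).symm ≫ 𝒳.p.map φ
    have hf : T f := ⟨c, φ, IsHomLift.of_fac' _ f φ (i.w_obj c) rfl (by simp [f])⟩
    obtain ⟨m, -, hme⟩ := exists_factor hX.1 (E (sob f hf)) φ
      (eqToHom ((i.w_obj c).trans ((H.w_obj (sob f hf)).symm.trans (i.w_obj _).symm))) (by
        have := hE (sob f hf)
        rw [IsHomLift.fac' 𝒳.p (sob f hf).obj.hom (E (sob f hf))]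
        simp [f, sob])
    obtain ⟨m, rfl⟩ := i.toFunctor.map_surjective m
    exact ⟨_, m, hme⟩
  have hθ : ∀ (c : 𝒜.obj) (φ : i.obj c ⟶ a), ∃ ψ : j.obj c ⟶ Y.obj (Over.mk (𝟙 (𝒳.p.obj a))),
      ∀ s (m : c ⟶ H.obj s), i.map m ≫ E s = φ → ψ = j.map m ≫ E' s := by
    intro c φ
    obtain ⟨s, m, hm⟩ := hwit c φ
    exact ⟨_, fun s' m' hm' => transfer hX.1 H E hE hEc E' hEc' m m' (hm.trans hm'.symm)⟩
  choose θ hθ using hθ
  have hb : 𝒴.p.obj (Y.obj (Over.mk (𝟙 (𝒳.p.obj a)))) = 𝒳.p.obj a := Y.w_obj _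
  have nat : ∀ {c' c : 𝒜.obj} (n : c' ⟶ c) (φ : i.obj c ⟶ a), θ c' (i.map n ≫ φ) = j.map n ≫ θ c φ := by
    intro c' c n φ
    obtain ⟨s, m, hm⟩ := hwit c φ
    rw [hθ c φ s m hm, hθ c' _ s (n ≫ m) (by rw [i.toFunctor.map_comp, Category.assoc, hm]),
      j.toFunctor.map_comp, Category.assoc]
  have base : ∀ (c : 𝒜.obj) (φ : i.obj c ⟶ a), 𝒴.p.map (θ c φ) =
      eqToHom ((j.w_obj c).trans (i.w_obj c).symm) ≫ 𝒳.p.map φ ≫ eqToHom hb.symm := by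
    intro c φ
    obtain ⟨s, m, hm⟩ := hwit c φ
    have := hE s
    have := hE' s
    rw [hθ c φ s m hm, ← hm, 𝒴.p.map_comp (j.map m) (E' s), 𝒳.p.map_comp (i.map m) (E s), IsHomLift.fac' 𝒴.p s.obj.hom (E' s),
      IsHomLift.fac' 𝒳.p s.obj.hom (E s), Groth.Agent.StkLib.w_map, Groth.Agent.StkLib.w_map]
    simp
  have inj : ∀ c, Function.Injective (θ c) := by
    intro c φ φ' h
    obtain ⟨s, m, rfl⟩ := hwit c φ
    obtain ⟨s', m', rfl⟩ := hwit c φ'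
    rw [hθ c _ s m rfl, hθ c _ s' m' rfl] at h
    exact transfer hY.1 H E' hE' hEc' E hEc m m' h
  exact ⟨_, ⟨{ hb := hb, nat := nat, base := base,
               θ := fun c => Equiv.ofBijective (θ c) ⟨inj c, surj_of_inj (isPrestack_of_isStack hX)
                 (isPrestack_of_isStack hY) hi hb θ nat base inj c⟩ }⟩⟩

include hj

/-- Stacks with a common covering fully faithful source are equivalent over the base, compatibly with the bases of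
the morphisms out of the source. -/
theorem exists_equiv_of_span_compat : ∃ e : 𝒳 ⥤ᵇ 𝒴, FibCat.IsEquivOver e ∧
    ∀ (a : 𝒳.obj) (c : 𝒜.obj) (φ : i.obj c ⟶ a), ∃ ψ : j.obj c ⟶ e.obj a, 𝒴.p.map ψ =
      eqToHom ((j.w_obj c).trans (i.w_obj c).symm) ≫ 𝒳.p.map φ ≫ eqToHom (e.w_obj a).symm := by
  have hpX := isPrestack_of_isStack hX
  have hpY := isPrestack_of_isStack hY
  choose b hb using fun a => exists_match hX hY hl hi (j := j) a
  let t : ∀ a, Match i j a (b a) := fun a => (hb a).some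
  choose β hβ₀ hβ using fun {a a' : 𝒳.obj} (α : a ⟶ a') => (t a).exists_hom hpY hj (t a') α
  have huniq : ∀ {a a' : 𝒳.obj} (α : a ⟶ a') (δ : b a ⟶ b a'),
      𝒴.p.map δ = eqToHom (t a).hb ≫ 𝒳.p.map α ≫ eqToHom (t a').hb.symm →
      (∀ c φ, (t a).θ c φ ≫ δ = (t a').θ c (φ ≫ α)) → δ = β α := fun α δ h h' =>
    (t _).hom_ext hpY hj δ (β α) (h.trans (hβ₀ α).symm) fun c φ => (h' c φ).trans (hβ α c φ).symm
  let e₀ : 𝒳.obj ⥤ 𝒴.obj :=
    { obj := b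
      map := fun α => β α
      map_id := fun a => (huniq (𝟙 a) (𝟙 _) (by simp) (fun c φ => by simp)).symm
      map_comp := fun {a a' a''} α α' => (huniq (α ≫ α') (β α ≫ β α')
        (by rw [Functor.map_comp, hβ₀, hβ₀, Functor.map_comp]; simp)
        (fun c φ => by rw [← Category.assoc, hβ, hβ, Category.assoc])).symm }
  let e : 𝒳 ⥤ᵇ 𝒴 :=
    { toFunctor := e₀
      w := CategoryTheory.Functor.ext (fun a => (t a).hb) fun a a' α => hβ₀ α }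
  refine ⟨e, ?_, fun a c φ => ⟨(t a).θ c φ, (t a).base c φ⟩⟩
  refine isEquivOver_of_exists_iso e ⟨fun {a a'} δ => ?_⟩ ⟨fun {a a'} α α' h => ?_⟩ fun η => ?_
  · obtain ⟨α, hα₀, hα⟩ := (t a).symm.exists_hom hpX hi (t a').symm δ
    refine ⟨α, (huniq α δ (by rw [hα₀]; simp) fun c φ => ?_).symm⟩
    have h₁ := hα c ((t a).θ c φ)
    rw [show (t a).symm.θ c ((t a).θ c φ) = φ from Equiv.symm_apply_apply _ _] at h₁
    rw [h₁]
    exact (Equiv.apply_symm_apply _ _).symm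
  · have h' : β α = β α' := h
    refine hom_ext_cover hpX hi α α' ?_ fun c φ => ((t a').θ c).injective ?_
    · have h₁ := hβ₀ α
      rw [h', hβ₀ α', cancel_epi, cancel_mono] at h₁
      exact h₁.symm
    · rw [← hβ, ← hβ, h']
  · obtain ⟨a, ⟨s⟩⟩ := exists_match hY hX hl hj (j := i) η
    have ha : 𝒳.p.obj a = 𝒴.p.obj η := s.hb
    obtain ⟨m, hm, -⟩ := (t a).exists_hom hpY hj s.symm (𝟙 a)
    have hml : 𝒴.p.IsHomLift (𝟙 (𝒴.p.obj η)) m := isHomLift_id_of_map_eq ((t a).hb.trans ha) rfl (by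
      rw [hm]; simp)
    have := isIso_of_lift (hp := hY.1) (𝟙 (𝒴.p.obj η)) m
    exact ⟨a, asIso m, hml⟩

/-- Stacks with a common covering fully faithful source are equivalent over the base. -/
theorem exists_equiv_of_span : ∃ e : 𝒳 ⥤ᵇ 𝒴, FibCat.IsEquivOver e :=
  (exists_equiv_of_span_compat hX hY hl hi hj).imp fun _ h => h.1

end Groth.Agent.IsoNatLib
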